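/- Presheaves of modules over a small category form a Grothendieck abelian category. -/
import Mathlib.Algebra.Category.ModuleCat.Presheaf.Generator
import Mathlib.Algebra.Category.ModuleCat.Presheaf.Colimits
import Mathlib.Algebra.Category.ModuleCat.Presheaf.Limits
import Mathlib.Algebra.Category.Grp.AB
import Mathlib.Algebra.Category.Grp.FilteredColimits
import Mathlib.CategoryTheory.Abelian.GrothendieckAxioms.FunctorCategory
import Mathlib.CategoryTheory.Abelian.GrothendieckCategory.EnoughInjectives
import Mathlib.CategoryTheory.Functor.ReflectsIso.Balanced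

set_option autoImplicit false

open CategoryTheory CategoryTheory.Limits

universe u

namespace Groth.Agent.PshMod.Grothendieck

variable {C : Type u} [SmallCategory C] (O : Cᵒᵖ ⥤ RingCat.{u})

theorem isGrothendieckAbelian : IsGrothendieckAbelian.{u} (PresheafOfModules.{u} O) where
  ab5OfSize := ⟨fun J _ _ => by
    haveI : ReflectsFiniteLimits (PresheafOfModules.toPresheaf.{u} O) :=
      reflectsFiniteLimits_of_reflectsIsomorphisms _
    exact HasExactColimitsOfShape.domain_of_functor J (PresheafOfModules.toPresheaf O)⟩
  hasSeparator := ⟨⟨∐ (fun X : C => (PresheafOfModules.free O).obj (yoneda.obj X)),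
    (isSeparator_sigma _).2 (PresheafOfModules.freeYoneda.isSeparating O)⟩⟩

theorem enoughInjectives : EnoughInjectives (PresheafOfModules.{u} O) := by
  haveI := isGrothendieckAbelian O
  infer_instance

end Groth.Agent.PshMod.Grothendieck
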